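import Groth.Agent.S2113
import Mathlib.AlgebraicGeometry.Noetherian
import Mathlib.Topology.JacobsonSpace
import Mathlib.AlgebraicGeometry.Properties
import Mathlib.Topology.LocallyClosed
import Mathlib.RingTheory.Spectrum.Prime.Noetherian

set_option autoImplicit false
open CategoryTheory AlgebraicGeometry Topology
universe u

namespace Groth.Agent.Ega4fib.H152.LocClosedPoint

/-- Domain form: Noetherian domain, some nonzero element in all nonzero primes: then the nonzero
primes are pairwise incomparable. -/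
theorem eq_of_le_of_ne_bot {D : Type u} [CommRing D] [IsDomain D] [IsNoetherianRing D]
    {f : D} (hf : f ≠ 0) (h : ∀ q : Ideal D, q.IsPrime → q ≠ ⊥ → f ∈ q) (P Q : Ideal D)
    (hP : P.IsPrime) (hQ : Q.IsPrime) (hP0 : P ≠ ⊥) (hPQ : P ≤ Q) : P = Q := by
  have hQ0 : Q ≠ ⊥ := by
    rintro rfl
    exact hP0 (le_bot_iff.1 hPQ)
  have h2 := Groth.Agent.S2113.mem_minimalPrimes_span hf h Q hQ hQ0
  exact le_antisymm hPQ
    (h2.2 ⟨hP, (Ideal.span_singleton_le_iff_mem P).2 (h P hP hP0)⟩ hPQ)

/-- In the spectrum of a Noetherian ring, the proper specializations of a locally closed point are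
closed points (in the sense that they have no proper specializations). -/
theorem eq_of_specializes_spec {B : Type u} [CommRing B] [IsNoetherianRing B]
    (x y w : PrimeSpectrum B) (hx : IsLocallyClosed ({x} : Set (PrimeSpectrum B)))
    (hxy : x ⤳ y) (hne : y ≠ x) (hyw : y ⤳ w) : y = w := by
  -- a basic open `D(f)` isolating `x` in its closure
  obtain ⟨U, F, hU, hF, hUF⟩ := hx
  have hxU : x ∈ U := by
    have : x ∈ U ∩ F := hUF ▸ rfl
    exact this.1
  have hxF : x ∈ F := by
    have : x ∈ U ∩ F := hUF ▸ rfl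
    exact this.2
  obtain ⟨_, ⟨f, rfl⟩, hxf, hfU⟩ :=
    PrimeSpectrum.isTopologicalBasis_basic_opens.exists_subset_of_mem_open hxU hU
  have key : ∀ z : PrimeSpectrum B, x ⤳ z → z ≠ x → f ∈ z.asIdeal := by
    intro z hxz hzx
    by_contra hfz
    apply hzx
    have h1 : z ∈ U := hfU hfz
    have h2 : z ∈ F := hxz.mem_closed hF hxF
    have : z ∈ ({x} : Set (PrimeSpectrum B)) := hUF ▸ ⟨h1, h2⟩
    exact this
  have hxy' : x.asIdeal ≤ y.asIdeal := (PrimeSpectrum.le_iff_specializes x y).2 hxy
  have hyw' : y.asIdeal ≤ w.asIdeal := (PrimeSpectrum.le_iff_specializes y w).2 hyw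
  have hfx : f ∉ x.asIdeal := hxf
  let π := Ideal.Quotient.mk x.asIdeal
  have hπ : Function.Surjective π := Ideal.Quotient.mk_surjective
  have hker : RingHom.ker π = x.asIdeal := Ideal.mk_ker
  have hmapP : ∀ z : PrimeSpectrum B, x.asIdeal ≤ z.asIdeal → (z.asIdeal.map π).IsPrime := by
    intro z hz
    exact Ideal.map_isPrime_of_surjective hπ (by rw [hker]; exact hz)
  have hcomap : ∀ z : PrimeSpectrum B, x.asIdeal ≤ z.asIdeal →
      (z.asIdeal.map π).comap π = z.asIdeal := by
    intro z hz
    rw [Ideal.comap_map_of_surjective π hπ, ← RingHom.ker_eq_comap_bot, hker]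
    exact sup_eq_left.2 hz
  have hmain : y.asIdeal.map π = w.asIdeal.map π := by
    refine eq_of_le_of_ne_bot (f := π f) ?_ ?_ _ _ (hmapP y hxy') (hmapP w (hxy'.trans hyw')) ?_
      (Ideal.map_mono hyw')
    · rwa [Ne, Ideal.Quotient.eq_zero_iff_mem]
    · intro q hq hq0
      have hz := key ⟨q.comap π, Ideal.comap_isPrime π q⟩
        ((PrimeSpectrum.le_iff_specializes _ _).1 (by
          intro a ha
          change π a ∈ q
          rw [Ideal.Quotient.eq_zero_iff_mem.2 ha]
          exact q.zero_mem)) (by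
          intro he
          apply hq0
          rw [← le_bot_iff]
          intro b hb
          obtain ⟨b, rfl⟩ := hπ b
          have : b ∈ x.asIdeal := by
            rw [← he]; exact hb
          rw [Ideal.mem_bot]
          exact Ideal.Quotient.eq_zero_iff_mem.2 this)
      exact hz
    · intro h0
      apply hne
      apply PrimeSpectrum.ext
      rw [← hcomap y hxy', h0, ← RingHom.ker_eq_comap_bot, hker]
  apply PrimeSpectrum.ext
  rw [← hcomap y hxy', hmain, hcomap w (hxy'.trans hyw')]

/-- On a locally Noetherian scheme, the proper specializations of a locally closed point are closed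
points. -/
theorem isClosed_singleton_of_specializes {X : Scheme.{u}} [IsLocallyNoetherian X] (x y : X)
    (hx : IsLocallyClosed ({x} : Set X)) (hxy : x ⤳ y) (hne : y ≠ x) :
    IsClosed ({y} : Set X) := by
  rw [← closure_subset_iff_isClosed]
  intro w hw
  have hyw : y ⤳ w := specializes_iff_mem_closure.2 hw
  obtain ⟨_, ⟨W, hW, rfl⟩, hwW, -⟩ :=
    X.isBasis_affineOpens.exists_subset_of_mem_open (Set.mem_univ w) isOpen_univ
  have hyW : y ∈ (W : Set X) := hyw.mem_open W.2 hwW
  have hxW : x ∈ (W : Set X) := hxy.mem_open W.2 hyW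
  have : IsNoetherianRing Γ(X, W) := IsLocallyNoetherian.component_noetherian ⟨W, hW⟩
  have hr := hW.range_fromSpec
  have he := hW.fromSpec.isOpenEmbedding
  rw [← hr] at hwW hyW hxW
  obtain ⟨w', rfl⟩ := hwW
  obtain ⟨y', rfl⟩ := hyW
  obtain ⟨x', rfl⟩ := hxW
  have h1 : x' ⤳ y' := he.isInducing.specializes_iff.1 hxy
  have h2 : y' ⤳ w' := he.isInducing.specializes_iff.1 hyw
  have h3 : IsLocallyClosed ({x'} : Set (PrimeSpectrum Γ(X, W))) := by
    have := hx.preimage he.continuous
    rwa [← Set.image_singleton, Set.preimage_image_eq _ he.injective] at this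
  have := eq_of_specializes_spec (B := Γ(X, W)) x' y' w' h3 h1 (fun h => hne (h ▸ rfl)) h2
  rw [this]
  rfl

/-- A nonempty locally closed subset of a scheme contains a locally closed point. -/
theorem exists_isLocallyClosed_singleton {X : Scheme.{u}} {Z : Set X} (hZ : IsLocallyClosed Z)
    (hne : Z.Nonempty) : ∃ x ∈ Z, IsLocallyClosed ({x} : Set X) := by
  obtain ⟨U, F, hU, hF, rfl⟩ := hZ
  obtain ⟨z, hzU, hzF⟩ := hne
  obtain ⟨_, ⟨W, hW, rfl⟩, hzW, hWU⟩ :=
    X.isBasis_affineOpens.exists_subset_of_mem_open hzU hU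
  have hr := hW.range_fromSpec
  have he := hW.fromSpec.isOpenEmbedding
  have hzW' := hzW
  rw [← hr] at hzW'
  obtain ⟨z', rfl⟩ := hzW'
  obtain ⟨x', hx', hcl⟩ := IsClosed.exists_closed_singleton (X := ↥(Spec Γ(X, W)))
    (hF.preimage he.continuous) ⟨z', hzF⟩
  refine ⟨hW.fromSpec x', ⟨hWU ?_, hx'⟩, ?_⟩
  · rw [← hr]
    exact ⟨x', rfl⟩
  · rw [← Set.image_singleton]
    exact hcl.isLocallyClosed.image he.isInducing (he.isOpen_range.isLocallyClosed)

end Groth.Agent.Ega4fib.H152.LocClosedPoint
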